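import Cfsg.Agent.Nodes.SimplyLaced
import Cfsg.Agent.Nodes.Unique
import Cfsg.Agent.OddHalf.SL.Defs
set_option linter.all false

/-!
# Index data of the simply laced root systems, uniformly

`cs : CoxeterSystem M W`, `h : IsCartan M A`, `W` finite, no labels `4`, `6`.

* `Bf A x y` : the Cartan form; `bf_eq_cpr` : `Bf A x y = ⟨x, y^∨⟩`; `bf_rep` : invariance;
* `roots` : `Defs.Roots (Bf A) {x | IsRoot cs h x}`;
* for a connected diagram: `exists_nonorth`, `orth`, `three` (rank at least `3`), `ind` (induction along `60°` steps);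
* `htHom` is a height functional: `ht_pos_iff`.
-/

set_option autoImplicit false
set_option linter.unusedSectionVars false

namespace Cfsg.Agent.OddHalf.SL.Index

open CoxeterSystem Cfsg.Agent.ChevalleyStructure.CoxeterGeom Cfsg.Agent.Tits.Roots Cfsg.Agent.Tits.Core
  Cfsg.Agent.Tits.RootComb Cfsg.Agent.Nodes.Comb Cfsg.Agent.Nodes.Reps Cfsg.Agent.Nodes.BNOf
  Cfsg.Agent.Nodes.SubComb Cfsg.Agent.Nodes.Coroot Cfsg.Agent.Nodes.SimplyLaced Cfsg.Agent.Nodes.ZFam

variable {I W : Type*} [Fintype I] [DecidableEq I] [Group W] {M : CoxeterMatrix I}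
  (cs : CoxeterSystem M W) {A : I → I → ℤ} (h : IsCartan M A)

/-- The Cartan form. -/
def Bf (A : I → I → ℤ) (x y : I → ℤ) : ℤ := ∑ i, y i * pairing A i x

omit [DecidableEq I] in
theorem bf_add_left (x x' y : I → ℤ) : Bf A (x + x') y = Bf A x y + Bf A x' y := by
  unfold Bf
  rw [← Finset.sum_add_distrib]
  exact Finset.sum_congr rfl fun i _ => by rw [pairing_add]; ring

omit [DecidableEq I] in
theorem bf_smul_left (c : ℤ) (x y : I → ℤ) : Bf A (c • x) y = c * Bf A x y := by
  unfold Bf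
  rw [Finset.mul_sum]
  exact Finset.sum_congr rfl fun i _ => by rw [pairing_smul]; ring

theorem bf_sr (x : I → ℤ) (i : I) : Bf A x (sr i) = pairing A i x := by
  unfold Bf
  rw [Finset.sum_eq_single i]
  · rw [sr_self, one_mul]
  · intro j _ hj; rw [sr_ne hj, zero_mul]
  · intro hi; exact absurd (Finset.mem_univ i) hi

omit [Fintype I] [DecidableEq I] in
theorem cartan_symm (h : IsCartan M A) (h4 : ∀ i j, M i j ≠ 4) (h6 : ∀ i j, M i j ≠ 6) (i j : I) : A i j = A j i := by
  by_cases hij : i = j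
  · rw [hij]
  rcases h.rel i j hij with ⟨h0, h1, h2⟩ | ⟨h0, h1, h2⟩ | ⟨h0, ⟨h1, h2⟩ | ⟨h1, h2⟩⟩ | ⟨h0, ⟨h1, h2⟩ | ⟨h1, h2⟩⟩ <;>
    first
    | exact absurd h0 (h6 i j)
    | exact absurd h0 (h4 i j)
    | rw [h1, h2]

include h in
omit [DecidableEq I] in
theorem bf_symm (h4 : ∀ i j, M i j ≠ 4) (h6 : ∀ i j, M i j ≠ 6) (x y : I → ℤ) : Bf A x y = Bf A y x := by
  have e : ∀ x y : I → ℤ, Bf A x y = ∑ i, ∑ j, y i * (A i j * x j) := by
    intro x y
    unfold Bf pairing
    exact Finset.sum_congr rfl fun i _ => by rw [Finset.mul_sum]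
  rw [e, e, Finset.sum_comm]
  refine Finset.sum_congr rfl fun i _ => Finset.sum_congr rfl fun j _ => ?_
  have := cartan_symm h h4 h6 i j
  rw [this]
  ring

variable {cs h}

theorem bf_rep (h4 : ∀ i j, M i j ≠ 4) (h6 : ∀ i j, M i j ≠ 6) (w : W) (x y : I → ℤ) :
    Bf A (rep cs h w x) (rep cs h w y) = Bf A x y := by
  obtain ⟨ω, rfl⟩ := cs.wordProd_surjective w
  induction ω generalizing x y with
  | nil => rw [wordProd_nil, map_one]; rfl
  | cons i ω ih =>
    rw [wordProd_cons, rep_mul_apply, rep_mul_apply, rep_simple_eq, rep_simple_eq, ← ih x y]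
    set u := rep cs h (cs.wordProd ω) x
    set v := rep cs h (cs.wordProd ω) y
    have e1 : ∀ x y z : I → ℤ, Bf A (x - y) z = Bf A x z - Bf A y z := fun x y z => by
      rw [sub_eq_add_neg, bf_add_left, ← neg_one_smul ℤ y, bf_smul_left]; ring
    have e2 : ∀ x y z : I → ℤ, Bf A z (x - y) = Bf A z x - Bf A z y := fun x y z => by
      rw [bf_symm h h4 h6 z, e1, bf_symm h h4 h6 x, bf_symm h h4 h6 y]
    have e3 : ∀ (c : ℤ) (x z : I → ℤ), Bf A z (c • x) = c * Bf A z x := fun c x z => by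
      rw [bf_symm h h4 h6 z, bf_smul_left, bf_symm h h4 h6 x]
    have e4 : Bf A (sr i) (sr i) = 2 := by rw [bf_sr, pairing_sr', h.diag]
    have e5 : Bf A u (sr i) = pairing A i u := bf_sr u i
    have e6 : Bf A (sr i) v = pairing A i v := by rw [bf_symm h h4 h6, bf_sr]
    rw [e1, e2, e2, e3, e3, bf_smul_left, bf_smul_left, e4, e5, e6]
    ring

theorem bf_eq_cpr [Finite W] (h4 : ∀ i j, M i j ≠ 4) (h6 : ∀ i j, M i j ≠ 6) (x : I → ℤ) {y : I → ℤ}
    (hy : IsRoot cs h y) : Bf A x y = cpr cs h x y := by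
  obtain ⟨w, i, rfl⟩ := hy
  rw [cpr_rep_sr, ← bf_sr, ← bf_rep (cs := cs) (h := h) h4 h6 w (rep cs h w⁻¹ x) (sr i), rep_apply_inv]

variable (cs h) in
/-- The index data. -/
theorem roots [Finite W] (h4 : ∀ i j, M i j ≠ 4) (h6 : ∀ i j, M i j ≠ 6) :
    Defs.Roots (Bf A) {x | IsRoot cs h x} := by
  have key : ∀ a, IsRoot cs h a → ∀ b, IsRoot cs h b → a ≠ b → Bf A a b ≤ 1 := by
    intro a ha b hb hab
    rw [bf_eq_cpr h4 h6 a hb]
    by_cases hn : a = -b
    · rw [hn, cpr_neg cs h b hb, cpr_self cs h hb]; norm_num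
    · exact (abs_le.1 (abs_cpr_le_one cs h h4 h6 ha hb hab hn)).2
  exact
    { fin := RGD.finite_roots
      symm := bf_symm h h4 h6
      add_left := bf_add_left
      two := fun a ha => by rw [bf_eq_cpr h4 h6 a ha, cpr_self cs h ha]
      neg_mem := fun a ha => ha.neg
      le := fun a ha b hb => by
        by_cases hab : a = b
        · rw [hab, bf_eq_cpr h4 h6 b hb, cpr_self cs h hb]
        · exact (key a ha b hb hab).trans (by norm_num)
      eq := fun a ha b hb hab => by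
        by_contra hne
        have := key a ha b hb hne
        omega
      add := fun a ha b hb hab => by
        have h1 := isRoot_refl cs h ha hb
        rw [← bf_eq_cpr h4 h6 a hb, hab, neg_one_smul, sub_neg_eq_add] at h1
        exact h1 }

/-! ### Connected diagrams -/

section Conn

variable [Finite W] (h4 : ∀ i j, M i j ≠ 4) (h6 : ∀ i j, M i j ≠ 6)
  (hirr : ∀ J : Set I, J.Nonempty → Jᶜ.Nonempty → ∃ i ∈ J, ∃ j ∈ Jᶜ, M i j ≠ 2)

include h4 h6 in
/-- Every root is not orthogonal to some simple root. -/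
theorem exists_simple_nonorth {x : I → ℤ} (hx : IsRoot cs h x) : ∃ i, Bf A (sr i) x ≠ 0 := by
  by_contra hcon
  push Not at hcon
  have h2 := (roots cs h h4 h6).two x hx
  unfold Bf at h2
  have h3 : ∀ i, pairing A i x = 0 := fun i => by rw [← bf_sr, bf_symm h h4 h6]; exact hcon i
  simp only [h3, mul_zero, Finset.sum_const_zero] at h2
  omega

include hirr h4 h6 in
/-- Any two roots of a connected simply laced system are not orthogonal to a common root. -/
theorem exists_nonorth {r s : I → ℤ} (hr : IsRoot cs h r) (hs : IsRoot cs h s) :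
    ∃ a, IsRoot cs h a ∧ Bf A a r ≠ 0 ∧ Bf A a s ≠ 0 := by
  have R := roots cs h h4 h6
  have step : ∀ s s', IsRoot cs h s → IsRoot cs h s' → (∃ a, IsRoot cs h a ∧ Bf A a r ≠ 0 ∧ Bf A a s ≠ 0) →
      Bf A s s' ≠ 0 → ∃ a, IsRoot cs h a ∧ Bf A a r ≠ 0 ∧ Bf A a s' ≠ 0 := by
    rintro s s' hs hs' ⟨a, ha, har, has⟩ hss
    by_cases h1 : Bf A a s' = 0
    · by_cases h2 : Bf A s r = 0
      · refine ⟨a - Bf A a s • s, ?_, ?_, ?_⟩
        · rw [bf_eq_cpr h4 h6 a hs]
          exact isRoot_refl cs h ha hs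
        · rw [R.sub_left, bf_smul_left, h2, mul_zero, sub_zero]; exact har
        · rw [R.sub_left, bf_smul_left, h1, zero_sub, neg_ne_zero]
          exact mul_ne_zero has hss
      · exact ⟨s, hs, h2, hss⟩
    · exact ⟨a, ha, har, h1⟩
  have hsimple : ∀ i, ∃ a, IsRoot cs h a ∧ Bf A a r ≠ 0 ∧ Bf A a (sr i) ≠ 0 := by
    by_contra hcon
    push Not at hcon
    obtain ⟨i0, hi0⟩ := hcon
    obtain ⟨i1, hi1⟩ := exists_simple_nonorth (cs := cs) (h := h) h4 h6 hr
    obtain ⟨i, hi, j, hj, hij⟩ := hirr {i | ∃ a, IsRoot cs h a ∧ Bf A a r ≠ 0 ∧ Bf A a (sr i) ≠ 0}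
      ⟨i1, sr i1, isRoot_sr cs h i1, hi1, by rw [R.two _ (isRoot_sr cs h i1)]; norm_num⟩
      ⟨i0, fun ⟨a, ha, h1, h2⟩ => h2 (hi0 a ha h1)⟩
    apply hj
    refine step (sr i) (sr j) (isRoot_sr cs h i) (isRoot_sr cs h j) hi ?_
    rw [bf_sr, pairing_sr']
    have hne : j ≠ i := by rintro rfl; exact hj hi
    exact (cartan_neg h hne (by rwa [M.symmetric] at hij)).ne
  obtain ⟨i, hi⟩ := exists_simple_nonorth (cs := cs) (h := h) h4 h6 hs
  exact step (sr i) s (isRoot_sr cs h i) hs (hsimple i) hi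

include hirr h4 h6 in
theorem orth : ∀ r ∈ {x | IsRoot cs h x}, ∀ s ∈ {x | IsRoot cs h x}, Bf A r s = 0 →
    ∃ a ∈ {x | IsRoot cs h x}, Bf A a r = 1 ∧ Bf A a s = -1 := by
  intro r hr s hs hrs
  have R := roots cs h h4 h6
  obtain ⟨a, ha, har, has⟩ := exists_nonorth h4 h6 hirr hr hs
  have hsr : Bf A s r = 0 := by rw [R.symm]; exact hrs
  have b1 := R.le a ha r hr
  have b2 := R.ge ha hr
  have b3 := R.le a ha s hs
  have b4 := R.ge ha hs
  have n1 : Bf A a r ≠ 2 := fun e => has (by rw [R.eq a ha r hr e]; exact hrs)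
  have n2 : Bf A a s ≠ 2 := fun e => har (by rw [R.eq a ha s hs e]; exact hsr)
  have n3 : Bf A a r ≠ -2 := fun e => has (by rw [R.eq_neg ha hr e, R.neg_left, hrs, neg_zero])
  have n4 : Bf A a s ≠ -2 := fun e => har (by rw [R.eq_neg ha hs e, R.neg_left, hsr, neg_zero])
  have hss := R.two s hs
  have c1 : Bf A a r = 1 ∨ Bf A a r = -1 := by omega
  have c2 : Bf A a s = 1 ∨ Bf A a s = -1 := by omega
  rcases c1 with c1 | c1 <;> rcases c2 with c2 | c2
  · exact ⟨a - s, R.sub_mem ha hs c2, by rw [R.sub_left, c1, hsr]; norm_num, by rw [R.sub_left, c2, hss]; norm_num⟩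
  · exact ⟨a, ha, c1, c2⟩
  · exact ⟨-a, R.neg_mem a ha, by rw [R.neg_left, c1]; norm_num, by rw [R.neg_left, c2]⟩
  · refine ⟨-(a + s), R.neg_mem _ (R.add a ha s hs c2), ?_, ?_⟩
    · rw [R.neg_left, R.add_left, c1, hsr]; norm_num
    · rw [R.neg_left, R.add_left, c2, hss]; norm_num

omit [Finite W] in
theorem span_sr : Submodule.span ℤ (Set.range (sr : I → I → ℤ)) = ⊤ := by
  have : (sr : I → I → ℤ) = ⇑(Pi.basisFun ℤ I) := by
    funext i
    rw [Pi.basisFun_apply]; rfl
  rw [this]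
  exact (Pi.basisFun ℤ I).span_eq

include hirr h4 h6 in
/-- In rank at least `3` no `A_2` is closed under non-orthogonality. -/
theorem exists_outside (h3 : 3 ≤ Fintype.card I) {r : I → ℤ} (s : I → ℤ) (hr : IsRoot cs h r) : ∃ c, IsRoot cs h c ∧ (Bf A c r ≠ 0 ∨ Bf A c s ≠ 0) ∧ c ∉ Submodule.span ℤ {r, s} := by
  classical
  have R := roots cs h h4 h6
  by_contra hcon
  push Not at hcon
  have all : ∀ s', IsRoot cs h s' → s' ∈ Submodule.span ℤ {r, s} := by
    intro s' hs'
    obtain ⟨a, ha, har, has⟩ := exists_nonorth h4 h6 hirr hr hs'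
    have h1 := hcon a ha (Or.inl har)
    obtain ⟨x, y, rfl⟩ := Submodule.mem_span_pair.1 h1
    apply hcon s' hs'
    by_contra h2
    push Not at h2
    apply has
    rw [bf_add_left, bf_smul_left, bf_smul_left, R.symm r, R.symm s, h2.1, h2.2]
    ring
  have htop : Submodule.span ℤ {r, s} = ⊤ := by
    rw [eq_top_iff, ← span_sr (I := I), Submodule.span_le]
    rintro _ ⟨i, rfl⟩
    exact all _ (isRoot_sr cs h i)
  have hcard : Module.finrank ℤ (I → ℤ) = Fintype.card I := Module.finrank_pi ℤ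
  have h5 : Module.finrank ℤ ↥(Submodule.span ℤ (({r, s} : Finset (I → ℤ)) : Set (I → ℤ))) ≤
      ({r, s} : Finset (I → ℤ)).card := finrank_span_finset_le_card _
  rw [Finset.coe_pair, htop, finrank_top, hcard] at h5
  have h6 := Finset.card_le_two (a := r) (b := s)
  omega

include hirr h4 h6 in
theorem three (h3 : 3 ≤ Fintype.card I) : ∀ r ∈ {x | IsRoot cs h x}, ∀ s ∈ {x | IsRoot cs h x}, Bf A r s = 1 →
    ∃ m ∈ {x | IsRoot cs h x}, Bf A m r = 1 ∧ Bf A m s = 1 := by
  intro r hr s hs hrs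
  have R := roots cs h h4 h6
  obtain ⟨c, hc, hcrs, hcn⟩ := exists_outside h4 h6 hirr h3 s hr
  have hsr : Bf A s r = 1 := by rw [R.symm]; exact hrs
  have hrr := R.two r hr
  have hss := R.two s hs
  have hrsm : IsRoot cs h (r - s) := R.sub_mem hr hs hrs
  have memr : r ∈ Submodule.span ℤ {r, s} := Submodule.subset_span (Set.mem_insert _ _)
  have mems : s ∈ Submodule.span ℤ {r, s} := Submodule.subset_span (Set.mem_insert_of_mem _ rfl)
  have key : ∀ x, IsRoot cs h x → x ∈ Submodule.span ℤ {r, s} → -1 ≤ Bf A c x ∧ Bf A c x ≤ 1 := by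
    intro x hx hxm
    have b1 := R.le c hc x hx
    have b2 := R.ge hc hx
    have n1 : Bf A c x ≠ 2 := fun e => hcn (by rw [R.eq c hc x hx e]; exact hxm)
    have n2 : Bf A c x ≠ -2 := fun e => hcn (by rw [R.eq_neg hc hx e]; exact neg_mem hxm)
    omega
  have kr := key r hr memr
  have ks := key s hs mems
  have krs := key (r - s) hrsm (sub_mem memr mems)
  rw [R.sub_right] at krs
  obtain ⟨x, hx⟩ : ∃ x, Bf A c r = x := ⟨_, rfl⟩
  obtain ⟨y, hy⟩ : ∃ y, Bf A c s = y := ⟨_, rfl⟩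
  rw [hx] at kr krs hcrs
  rw [hy] at ks krs hcrs
  have cases : (x = 1 ∧ y = 1) ∨ (x = -1 ∧ y = -1) ∨ (x = 1 ∧ y = 0) ∨ (x = -1 ∧ y = 0) ∨ (x = 0 ∧ y = 1) ∨
      (x = 0 ∧ y = -1) := by omega
  rcases cases with ⟨rfl, rfl⟩ | ⟨rfl, rfl⟩ | ⟨rfl, rfl⟩ | ⟨rfl, rfl⟩ | ⟨rfl, rfl⟩ | ⟨rfl, rfl⟩
  · exact ⟨c, hc, hx, hy⟩
  · exact ⟨-c, R.neg_mem c hc, by rw [R.neg_left, hx]; norm_num, by rw [R.neg_left, hy]; norm_num⟩
  · have hrc : Bf A r c = 1 := by rw [R.symm]; exact hx
    exact ⟨r - c, R.sub_mem hr hc hrc, by rw [R.sub_left, hrr, hx]; norm_num, by rw [R.sub_left, hrs, hy]; norm_num⟩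
  · have hrc : Bf A r c = -1 := by rw [R.symm]; exact hx
    exact ⟨r + c, R.add r hr c hc hrc, by rw [R.add_left, hrr, hx]; norm_num, by rw [R.add_left, hrs, hy]; norm_num⟩
  · have hsc : Bf A s c = 1 := by rw [R.symm]; exact hy
    exact ⟨s - c, R.sub_mem hs hc hsc, by rw [R.sub_left, hsr, hx]; norm_num, by rw [R.sub_left, hss, hy]; norm_num⟩
  · have hsc : Bf A s c = -1 := by rw [R.symm]; exact hy
    exact ⟨s + c, R.add s hs c hc hsc, by rw [R.add_left, hsr, hx]; norm_num, by rw [R.add_left, hss, hy]; norm_num⟩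

include hirr h4 h6 in
/-- **Induction along `60°` steps** (rank at least `2`). -/
theorem ind (h2 : 2 ≤ Fintype.card I) {P : (I → ℤ) → Prop} {r0 : I → ℤ} (hr0 : IsRoot cs h r0) (h0 : P r0)
    (hP : ∀ r s, IsRoot cs h r → IsRoot cs h s → Bf A r s = 1 → P r → P s) {s : I → ℤ} (hs : IsRoot cs h s) :
    P s := by
  have R := roots cs h h4 h6
  -- every root has a neighbour at `120°`
  have nb : ∀ a, IsRoot cs h a → ∃ b, IsRoot cs h b ∧ Bf A a b = -1 := by
    intro a ha
    by_contra hcon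
    push Not at hcon
    -- then every root is `± a`
    have all : ∀ s', IsRoot cs h s' → s' ∈ Submodule.span ℤ {a} := by
      intro s' hs'
      obtain ⟨c, hc, hca, hcs⟩ := exists_nonorth h4 h6 hirr ha hs'
      have pm : ∀ c d, IsRoot cs h c → IsRoot cs h d → Bf A c d ≠ 0 → d ∈ Submodule.span ℤ {a} →
          (∀ b, IsRoot cs h b → Bf A d b ≠ -1) → c ∈ Submodule.span ℤ {a} := by
        intro c d hc hd hcd hda hdn
        have b1 := R.le c hc d hd
        have b2 := R.ge hc hd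
        have n1 : Bf A c d ≠ -1 := by rw [R.symm]; exact hdn c hc
        have n2 : Bf A c d ≠ 1 := by
          intro e
          apply hdn (-c) (R.neg_mem c hc)
          rw [R.neg_right, R.symm, e]
        have : Bf A c d = 2 ∨ Bf A c d = -2 := by omega
        rcases this with e | e
        · rw [R.eq c hc d hd e]; exact hda
        · rw [R.eq_neg hc hd e]; exact neg_mem hda
      have hcm := pm c a hc ha hca (Submodule.mem_span_singleton_self a) hcon
      have hcn : ∀ b, IsRoot cs h b → Bf A c b ≠ -1 := by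
        intro b hb
        have b1 := R.le c hc a ha
        have b2 := R.ge hc ha
        have n1 : Bf A c a ≠ -1 := by rw [R.symm]; exact hcon c hc
        have n2 : Bf A c a ≠ 1 := by
          intro e
          apply hcon (-c) (R.neg_mem c hc)
          rw [R.neg_right, R.symm, e]
        have : Bf A c a = 2 ∨ Bf A c a = -2 := by omega
        rcases this with e | e
        · rw [R.eq c hc a ha e]; exact hcon b hb
        · rw [R.eq_neg hc ha e, R.neg_left]
          intro e2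
          apply hcon (-b) (R.neg_mem b hb)
          rw [R.neg_right, e2]
      exact pm s' c hs' hc (by rw [R.symm]; exact hcs) hcm hcn
    have htop : Submodule.span ℤ {a} = ⊤ := by
      rw [eq_top_iff, ← span_sr (I := I), Submodule.span_le]
      rintro _ ⟨i, rfl⟩
      exact all _ (isRoot_sr cs h i)
    have hcard : Module.finrank ℤ (I → ℤ) = Fintype.card I := Module.finrank_pi ℤ
    have h5 : Module.finrank ℤ ↥(Submodule.span ℤ ((({a} : Finset (I → ℤ)) : Set (I → ℤ)))) ≤
        ({a} : Finset (I → ℤ)).card := finrank_span_finset_le_card _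
    rw [Finset.coe_singleton, htop, finrank_top, hcard, Finset.card_singleton] at h5
    omega
  -- from `a` to `-a`
  have neg : ∀ a, IsRoot cs h a → P a → P (-a) := by
    intro a ha hPa
    obtain ⟨b, hb, hab⟩ := nb a ha
    have hba : Bf A b a = -1 := by rw [R.symm]; exact hab
    have haa := R.two a ha
    have hbb := R.two b hb
    have hs := R.add a ha b hb hab
    have e1 : Bf A a (a + b) = 1 := by rw [R.add_right, haa, hab]; norm_num
    have e2 : Bf A (a + b) b = 1 := by rw [R.add_left, hab, hbb]; norm_num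
    have e3 : Bf A b (-a) = 1 := by rw [R.neg_right, hba]; norm_num
    exact hP b (-a) hb (R.neg_mem a ha) e3 (hP (a + b) b hs hb e2 (hP a (a + b) ha hs e1 hPa))
  have step : ∀ r s, IsRoot cs h r → IsRoot cs h s → Bf A r s ≠ 0 → P r → P s := by
    intro r s hr hs hrs hPr
    have b1 := R.le r hr s hs
    have b2 := R.ge hr hs
    have : Bf A r s = 1 ∨ Bf A r s = -1 ∨ Bf A r s = 2 ∨ Bf A r s = -2 := by omega
    rcases this with e | e | e | e
    · exact hP r s hr hs e hPr
    · have := neg _ (R.neg_mem s hs) (hP r (-s) hr (R.neg_mem s hs) (by rw [R.neg_right, e]; norm_num) hPr)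
      rwa [neg_neg] at this
    · rwa [← R.eq r hr s hs e]
    · have := R.eq_neg hr hs e
      rw [this] at hPr
      have h3 := neg _ (R.neg_mem s hs) hPr
      rwa [neg_neg] at h3
  obtain ⟨a, ha, har, has⟩ := exists_nonorth h4 h6 hirr hr0 hs
  exact step a s ha hs has (step r0 a hr0 ha (by rw [R.symm]; exact har) h0)

end Conn

/-! ### The height -/

/-- The height as a homomorphism. -/
def hth : (I → ℤ) →+ ℤ where
  toFun := ht
  map_zero' := by unfold ht; simp
  map_add' := RGD.ht_add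

theorem hth_apply (x : I → ℤ) : hth x = ht x := rfl

theorem hth_pos_iff {x : I → ℤ} (hx : IsRoot cs h x) : 0 < hth x ↔ 0 ≤ x := by
  constructor
  · intro h0
    rcases hx.pos_or_neg with h1 | h1
    · exact h1
    · exfalso
      have h2 : ht x ≤ 0 := Finset.sum_nonpos fun k _ => h1 k
      exact absurd h0 (not_lt.2 h2)
  · exact RGD.ht_pos hx

end Cfsg.Agent.OddHalf.SL.Index
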